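import Cfsg.Agent.Lib.ClassSum.Basic
import Cfsg.Agent.Lib.CT.Kernel
import Cfsg.Agent.Lib.Blocks.Orthogonality
import Cfsg.Agent.S0942
import Cfsg.Agent.S0944

/-!
A character-theoretic criterion for an elementary abelian `2`-subgroup to lie in a proper kernel.
-/

set_option autoImplicit false
set_option linter.all false

namespace Cfsg.Agent.ExtClosed

open Cfsg Cfsg.Agent
open scoped ComplexConjugate
open Representation Module

universe u

variable {G : Type u} [Group G]

/-- Averaging over a conjugacy class. -/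
theorem conj_avg [Fintype G] {χ : G → ℂ} (hχ : IsIrrCharacter G χ) (t s : G) :
    ∑ g : G, χ (t * (g * s * g⁻¹)) = (Nat.card G : ℂ) * χ t * χ s / χ 1 := by
  classical
  let f : G → ℤ := fun u => ((Finset.univ.filter fun g : G => g * s * g⁻¹ = u).card : ℤ)
  have hf : ClassSum.IsClassWeight f := by
    intro g h
    show ((Finset.univ.filter fun a : G => a * s * a⁻¹ = h * g * h⁻¹).card : ℤ) =
      (Finset.univ.filter fun a : G => a * s * a⁻¹ = g).card
    congr 1
    refine Finset.card_equiv (Equiv.mulLeft h⁻¹) fun a => ?_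
    simp only [Finset.mem_filter, Finset.mem_univ, true_and, Equiv.coe_mulLeft]
    constructor
    · intro e
      calc h⁻¹ * a * s * (h⁻¹ * a)⁻¹ = h⁻¹ * (a * s * a⁻¹) * h := by group
        _ = g := by rw [e]; group
    · intro e
      calc a * s * a⁻¹ = h * (h⁻¹ * a * s * (h⁻¹ * a)⁻¹) * h⁻¹ := by group
        _ = h * g * h⁻¹ := by rw [e]
  have hsum : ∀ F : G → ℂ, ∑ u, (f u : ℂ) * F u = ∑ g : G, F (g * s * g⁻¹) := by
    intro F
    rw [← Finset.sum_fiberwise Finset.univ (fun g : G => g * s * g⁻¹) (fun g => F (g * s * g⁻¹))]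
    refine Finset.sum_congr rfl fun u _ => ?_
    rw [Finset.sum_congr rfl fun g hg => by rw [(Finset.mem_filter.1 hg).2]]
    simp [f]
  have key := ClassSum.char_mul_omega hχ hf t
  rw [hsum fun u => χ (t * u), ClassSum.omega, hsum χ] at key
  rw [← key, Finset.sum_congr rfl fun g _ =>
    (CT.isClassFunction_isConj (CT.isClassFunction_of_isIrr hχ) (isConj_iff.mpr ⟨g, rfl⟩) :
      χ s = χ (g * s * g⁻¹)).symm]
  rw [Finset.sum_const, Finset.card_univ, nsmul_eq_mul, Nat.card_eq_fintype_card]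
  ring

/-- The trace of the product of two involutions. -/
theorem re_char_mul_ge [Finite G] {χ : G → ℂ} (hχ : IsCharacter G χ) {a b : G}
    (ha : a * a = 1) (hb : b * b = 1) :
    (χ a).re + (χ b).re - (χ 1).re ≤ (χ (a * b)).re := by
  classical
  obtain ⟨n, ρ, rfl⟩ := hχ
  let A : Module.End ℂ (Fin n → ℂ) := ρ a
  let B : Module.End ℂ (Fin n → ℂ) := ρ b
  have hA : ∀ v, A (A v) = v := fun v => by
    show (ρ a * ρ a) v = v
    rw [← map_mul, ha, map_one]; rfl
  have hB : ∀ v, B (B v) = v := fun v => by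
    show (ρ b * ρ b) v = v
    rw [← map_mul, hb, map_one]; rfl
  -- fixed spaces
  have fix : ∀ T : Module.End ℂ (Fin n → ℂ), (∀ v, T (T v) = v) →
      LinearMap.trace ℂ _ T = 2 * (finrank ℂ (LinearMap.ker (T - 1)) : ℂ) - n := by
    intro T hT
    set P : Module.End ℂ (Fin n → ℂ) := (2 : ℂ)⁻¹ • (T + 1) with hPdef
    have hP : LinearMap.IsProj (LinearMap.ker (T - 1)) P := by
      refine ⟨fun v => ?_, fun v hv => ?_⟩
      · simp only [LinearMap.mem_ker, hPdef, LinearMap.sub_apply, LinearMap.smul_apply,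
          LinearMap.add_apply, Module.End.one_apply, map_smul, map_add, hT]
        module
      · simp only [LinearMap.mem_ker, LinearMap.sub_apply, Module.End.one_apply, sub_eq_zero] at hv
        simp only [hPdef, LinearMap.smul_apply, LinearMap.add_apply, Module.End.one_apply, hv]
        rw [← two_smul ℂ, smul_smul]
        simp
    have h1 := hP.trace
    rw [hPdef, map_smul, map_add, LinearMap.trace_one, smul_eq_mul] at h1
    simp only [Module.finrank_fin_fun] at h1
    linear_combination (2 : ℂ) * h1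
  set U := LinearMap.ker (A - 1) with hU
  set U' := LinearMap.ker (B - 1) with hU'
  set W := U ⊓ U' with hW
  have hdim : finrank ℂ U + finrank ℂ U' ≤ n + finrank ℂ W := by
    have h1 := Submodule.finrank_sup_add_finrank_inf_eq U U'
    have h2 := Submodule.finrank_le (U ⊔ U')
    rw [Module.finrank_fin_fun] at h2
    rw [hW]; omega
  let Z : Subgroup G := Subgroup.zpowers (a * b)
  let σ : Representation ℂ Z (Fin n → ℂ) := ρ.comp Z.subtype
  have hfix : ∀ v ∈ W, ∀ z : Z, σ z v = v := by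
    intro v hv z
    have hab : ρ (a * b) v = v := by
      have h1 : A v = v := by
        exact sub_eq_zero.1 (LinearMap.mem_ker.1 hv.1 : (A - 1) v = 0)
      have h2 : B v = v := by
        exact sub_eq_zero.1 (LinearMap.mem_ker.1 hv.2 : (B - 1) v = 0)
      rw [map_mul]
      show A (B v) = v
      rw [h2, h1]
    let S : Subgroup G :=
      { carrier := {g | ρ g v = v}
        one_mem' := by simp
        mul_mem' := fun {x y} hx hy => by
          show ρ (x * y) v = v
          rw [map_mul, Module.End.mul_apply, hy, hx]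
        inv_mem' := fun {x} hx => by
          show ρ x⁻¹ v = v
          calc ρ x⁻¹ v = ρ x⁻¹ (ρ x v) := by rw [hx]
            _ = v := by rw [← Module.End.mul_apply, ← map_mul, inv_mul_cancel, map_one]; rfl }
    exact (Subgroup.zpowers_le.2 (show a * b ∈ S from hab) : Z ≤ S) z.2
  obtain ⟨W', hc, hW'inv⟩ := CT.exists_isCompl_invariant σ W fun z v hv => (hfix v hv z).symm ▸ hv
  have hWinv : ∀ z : Z, ∀ v ∈ W, σ z v ∈ W := fun z v hv => (hfix v hv z).symm ▸ hv
  have hchar := congrFun (CT.char_isCompl σ hc hWinv hW'inv) ⟨a * b, Subgroup.mem_zpowers _⟩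
  have hW1 : (CT.restrictSub σ W hWinv).character ⟨a * b, Subgroup.mem_zpowers _⟩ =
      (finrank ℂ W : ℂ) := by
    have : CT.restrictSub σ W hWinv ⟨a * b, Subgroup.mem_zpowers _⟩ = 1 :=
      LinearMap.ext fun v => Subtype.ext (hfix v v.2 _)
    rw [Representation.character, this, LinearMap.trace_one]
  have hW2 := CT.norm_char_le (CT.restrictSub σ W' hW'inv) ⟨a * b, Subgroup.mem_zpowers _⟩
  have hsum : finrank ℂ W + finrank ℂ W' = n := by
    rw [Submodule.finrank_add_eq_of_isCompl hc, Module.finrank_fin_fun]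
  rw [Pi.add_apply, hW1] at hchar
  change ρ.character (a * b) = _ at hchar
  have e1 : (ρ.character a).re = 2 * (finrank ℂ U : ℝ) - n := by
    show (LinearMap.trace ℂ _ A).re = _
    rw [fix A hA]; simp; rfl
  have e2 : (ρ.character b).re = 2 * (finrank ℂ U' : ℝ) - n := by
    show (LinearMap.trace ℂ _ B).re = _
    rw [fix B hB]; simp; rfl
  rw [hchar, e1, e2, Representation.char_one, Module.finrank_fin_fun, Complex.add_re,
    Complex.natCast_re, Complex.natCast_re]
  have h3 := (abs_le.1 ((Complex.abs_re_le_norm _).trans hW2)).1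
  have h4 : (finrank ℂ U : ℝ) + finrank ℂ U' ≤ n + finrank ℂ W := by exact_mod_cast hdim
  have h5 : (finrank ℂ W : ℝ) + finrank ℂ W' = n := by exact_mod_cast hsum
  linarith

open Classical in
/-- An elementary abelian `2`-group with controlled products has a nontrivial principal block
character in whose kernel it lies. -/
theorem exists_kernel [Fintype G] {M : Ideal AlgInt} (hM : IsPModular 2 M) (V : Finset G)
    (h1V : (1 : G) ∈ V) (hsq : ∀ v ∈ V, v * v = 1) (hmul : ∀ a ∈ V, ∀ b ∈ V, a * b ∈ V)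
    (hdata : ∀ g : G, ∃ x : G,
      (∀ F : G → ℂ, ∑ s ∈ V.erase 1, F (g * s * g⁻¹) = ∑ b ∈ V.erase 1, F (x * b * x⁻¹)) ∧
      (∀ t ∈ V.erase 1, Odd (orderOf (t * (x * t * x⁻¹)))) ∧
      ∀ t ∈ V.erase 1, ∀ b ∈ V.erase 1, t ≠ b → ∀ χ : IrrCharacter G, χ ∈ principalBlock M G →
        (χ : G → ℂ) (t * (x * b * x⁻¹)) = (χ : G → ℂ) (t * b))
    (hex : ∀ χ : IrrCharacter G, ∃ m : ℕ, ∑ v ∈ V, (χ : G → ℂ) v = (V.card : ℂ) * m)
    (hcard : ∃ k, V.card = 2 ^ k) {t : G} (ht : t ∈ V.erase 1)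
    (hr : Odd (V.filter (fun v => IsConj t v)).card) (hr3 : 3 ≤ (V.filter (fun v => IsConj t v)).card) :
    ∃ χ : IrrCharacter G, χ ≠ CT.trivIrr G ∧ ∀ v ∈ V, (χ : G → ℂ) v = (χ : G → ℂ) 1 := by
  classical
  haveI : Fact (Nat.Prime 2) := ⟨Nat.prime_two⟩
  haveI := hM.2.1.isPrime
  by_contra hcon
  push Not at hcon
  have hint : ∀ (χ : IrrCharacter G), ∀ v ∈ V, ∃ n : ℤ, (χ : G → ℂ) v = n := by
    intro χ v hv
    by_cases h1 : v = 1
    · exact ⟨CT.deg (χ : G → ℂ), by rw [h1, CT.deg_eq (CT.isCharacter_of_isIrr χ.2)]; simp⟩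
    · obtain ⟨n, hn, -⟩ := Cfsg.Agent.S0944.result χ v
        (orderOf_eq_prime (by rw [sq]; exact hsq v hv) h1)
      exact ⟨n, hn⟩
  choose! c hc using hint
  let m : IrrCharacter G → ℕ := fun χ => (hex χ).choose
  have hm : ∀ χ : IrrCharacter G, ∑ v ∈ V, (χ : G → ℂ) v = (V.card : ℂ) * m χ := fun χ => (hex χ).choose_spec
  let d : IrrCharacter G → ℤ := fun χ => c χ 1
  have hd : ∀ χ : IrrCharacter G, (χ : G → ℂ) 1 = (d χ : ℂ) := fun χ => hc χ 1 h1V
  have hd0 : ∀ χ, 0 < d χ := by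
    intro χ
    have h := CT.deg_pos χ.2
    have h2 : ((d χ : ℤ) : ℂ) = ((CT.deg (χ : G → ℂ) : ℤ) : ℂ) := by
      rw [← hd, CT.deg_eq (CT.isCharacter_of_isIrr χ.2)]; simp
    rw [Int.cast_inj] at h2
    omega
  -- the averaged identity at any nontrivial element
  let E : IrrCharacter G → G → ℂ := fun χ a =>
    (χ : G → ℂ) a * ((V.card : ℂ) * m χ) / (χ : G → ℂ) 1 - (V.card : ℂ) * m χ + (χ : G → ℂ) 1
  choose x hxsum hxodd hxval using hdata
  have hident : ∀ χ ∈ principalBlock M G, ∀ a ∈ V.erase 1,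
      (Nat.card G : ℂ) * E χ a = ∑ g : G, (χ : G → ℂ) (a * (x g * a * (x g)⁻¹)) := by
    intro χ hχ a ha
    obtain ⟨ha1, haV⟩ := Finset.mem_erase.1 ha
    have h1 : ∑ g : G, ∑ s ∈ V.erase 1, (χ : G → ℂ) (a * (g * s * g⁻¹)) =
        ∑ g : G, ((χ : G → ℂ) (a * (x g * a * (x g)⁻¹)) +
          ∑ b ∈ (V.erase 1).erase a, (χ : G → ℂ) (a * b)) := by
      refine Finset.sum_congr rfl fun g _ => ?_
      rw [hxsum g fun y => (χ : G → ℂ) (a * y), ← Finset.add_sum_erase _ _ ha]
      refine congrArg _ (Finset.sum_congr rfl fun b hb => ?_)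
      exact hxval g a ha b (Finset.mem_of_mem_erase hb) (Finset.ne_of_mem_erase hb).symm χ hχ
    have h2 : ∑ g : G, ∑ s ∈ V.erase 1, (χ : G → ℂ) (a * (g * s * g⁻¹)) =
        (Nat.card G : ℂ) * (χ : G → ℂ) a * ((V.card : ℂ) * m χ - (χ : G → ℂ) 1) / (χ : G → ℂ) 1 := by
      rw [Finset.sum_comm, Finset.sum_congr rfl fun s _ => conj_avg χ.2 a s, ← Finset.sum_div,
        ← Finset.mul_sum, Finset.sum_erase_eq_sub h1V, hm]
    have h3 : ∑ b ∈ (V.erase 1).erase a, (χ : G → ℂ) (a * b) =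
        (V.card : ℂ) * m χ - (χ : G → ℂ) 1 - (χ : G → ℂ) a := by
      have h4 : ∑ b ∈ V, (χ : G → ℂ) (a * b) = ∑ v ∈ V, (χ : G → ℂ) v := by
        refine Finset.sum_bij' (fun b _ => a * b) (fun b _ => a * b) (fun b hb => hmul a haV b hb)
          (fun b hb => hmul a haV b hb) (fun b _ => ?_) (fun b _ => ?_) (fun b _ => rfl)
        all_goals show a * (a * b) = b
        all_goals rw [← mul_assoc, hsq a haV, one_mul]
      rw [Finset.sum_erase_eq_sub ha, Finset.sum_erase_eq_sub h1V, h4, hm, mul_one, hsq a haV]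
      ring
    rw [Finset.sum_add_distrib, h2, h3, Finset.sum_const, Finset.card_univ, nsmul_eq_mul,
      ← Nat.card_eq_fintype_card] at h1
    have hne := CT.irr_one_ne_zero χ.2
    simp only [E]
    linear_combination (norm := (field_simp; ring)) h1
  -- the bound
  have hbound : ∀ χ ∈ principalBlock M G, χ ≠ CT.trivIrr G →
      (V.card : ℤ) * m χ ≤ 2 * d χ := by
    intro χ hχ hne
    obtain ⟨a, haV, hane⟩ := hcon χ hne
    have ha : a ∈ V.erase 1 := Finset.mem_erase.2 ⟨fun e => hane (by rw [e]), haV⟩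
    have hre := congrArg Complex.re (hident χ hχ a ha)
    have hge : ∑ _g : G, ((2 : ℝ) * (c χ a : ℝ) - (d χ : ℝ)) ≤
        (∑ g : G, (χ : G → ℂ) (a * (x g * a * (x g)⁻¹))).re := by
      rw [Complex.re_sum]
      refine Finset.sum_le_sum fun g _ => ?_
      have h := re_char_mul_ge (CT.isCharacter_of_isIrr χ.2) (a := a) (b := x g * a * (x g)⁻¹)
        (hsq a haV) (by rw [show x g * a * (x g)⁻¹ * (x g * a * (x g)⁻¹) = x g * (a * a) * (x g)⁻¹ by
          group, hsq a haV]; group)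
      rw [← CT.isClassFunction_isConj (CT.isClassFunction_of_isIrr χ.2)
        (isConj_iff.mpr ⟨x g, rfl⟩ : IsConj a (x g * a * (x g)⁻¹)), hc χ a haV, hd χ] at h
      simp only [Complex.intCast_re] at h
      linarith
    rw [Finset.sum_const, Finset.card_univ, nsmul_eq_mul, ← hre] at hge
    have hE : E χ a = (((c χ a : ℝ) * ((V.card : ℝ) * (m χ : ℝ)) / (d χ : ℝ) -
        (V.card : ℝ) * (m χ : ℝ) + (d χ : ℝ) : ℝ) : ℂ) := by
      simp only [E, hc χ a haV, hd χ]; push_cast; ring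
    rw [hE, Nat.card_eq_fintype_card, ← Complex.ofReal_natCast, Complex.re_ofReal_mul,
      Complex.ofReal_re] at hge
    have hG : (0 : ℝ) < (Fintype.card G : ℝ) := Nat.cast_pos.2 Fintype.card_pos
    have h5 := le_of_mul_le_mul_left hge hG
    have hdR : (0 : ℝ) < (d χ : ℝ) := by exact_mod_cast hd0 χ
    have hca : (c χ a : ℝ) < (d χ : ℝ) := by
      have h := CT.norm_isCharacter_le (CT.isCharacter_of_isIrr χ.2) a
      rw [hc χ a haV, hd χ, Complex.norm_intCast, Complex.intCast_re] at h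
      have h6 : c χ a ≠ d χ := fun e => hane (by rw [hc χ a haV, hd χ, e])
      exact lt_of_le_of_ne ((le_abs_self _).trans h) (by exact_mod_cast h6)
    have h7 : ((d χ : ℝ) - c χ a) * ((V.card : ℝ) * m χ) ≤
        ((d χ : ℝ) - c χ a) * (2 * d χ) := by
      rw [div_sub' hdR.ne', div_add' _ _ _ hdR.ne', le_div_iff₀ hdR] at h5
      linarith
    have h8 := le_of_mul_le_mul_left h7 (sub_pos.2 hca)
    exact_mod_cast h8
  -- orthogonality
  obtain ⟨ht1, htV⟩ := Finset.mem_erase.1 ht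
  have hto : orderOf t = 2 := orderOf_eq_prime (by rw [sq]; exact hsq t htV) ht1
  set B := Finset.univ.filter (fun χ : IrrCharacter G => χ ∈ principalBlock M G) with hB
  have hBp : IsPBlock M (principalBlock M G) := Blocks.isPBlock_blockOf (CT.trivIrr G)
  have horth : ∀ u v : G, ∀ (_ : ∑ᶠ χ ∈ principalBlock M G,
      (χ : G → ℂ) u * conj ((χ : G → ℂ) v) = 0),
      ∑ χ ∈ B, (χ : G → ℂ) u * conj ((χ : G → ℂ) v) = 0 := by
    intro u v h
    rw [Blocks.finsum_mem_irr] at h
    rw [hB, Finset.sum_filter]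
    exact h
  have hconj : ∀ χ : IrrCharacter G, conj ((χ : G → ℂ) t) = (χ : G → ℂ) t := fun χ => by
    rw [hc χ t htV]; simp
  set r := (V.filter fun v => IsConj t v).card with hrdef
  set Mt : ℤ := ∑ χ ∈ B, c χ t ^ 2 with hMt
  have hS : ∑ χ ∈ B, (χ : G → ℂ) t * ((V.card : ℂ) * m χ) = (r : ℂ) * (Mt : ℂ) := by
    calc ∑ χ ∈ B, (χ : G → ℂ) t * ((V.card : ℂ) * m χ)
        = ∑ v ∈ V, ∑ χ ∈ B, (χ : G → ℂ) v * conj ((χ : G → ℂ) t) := by
          rw [Finset.sum_comm]
          refine Finset.sum_congr rfl fun χ _ => ?_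
          rw [← hm χ, Finset.mul_sum]
          exact Finset.sum_congr rfl fun v _ => by rw [hconj, mul_comm]
      _ = ∑ v ∈ V, if IsConj t v then (Mt : ℂ) else 0 := by
          refine Finset.sum_congr rfl fun v hv => ?_
          split_ifs with h
          · rw [hMt]; push_cast
            refine Finset.sum_congr rfl fun χ _ => ?_
            rw [hconj, ← CT.isClassFunction_isConj (CT.isClassFunction_of_isIrr χ.2) h, hc χ t htV,
              sq]
          · refine horth v t ?_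
            by_cases hv1 : v = 1
            · exact Blocks.weak_orthogonality hM (Blocks.blockCoeff_mem_loc hBp)
                (by rw [hv1, orderOf_one]; norm_num) (by rw [hto])
            · have hp : ∀ y ∈ V, y ≠ 1 → IsPPart 2 y y := fun y hy hy1 =>
                ⟨1, mul_one y, Commute.one_right y,
                  ⟨1, by rw [pow_one]; exact orderOf_eq_prime (by rw [sq]; exact hsq y hy) hy1⟩,
                  by rw [orderOf_one]; norm_num⟩
              exact Blocks.block_orthogonality hM (Blocks.blockCoeff_mem_loc hBp)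
                (hp v hv hv1) (hp t htV ht1) fun e => h e.symm
      _ = (r : ℂ) * (Mt : ℂ) := by
          rw [← Finset.sum_filter, Finset.sum_const, nsmul_eq_mul]
  have hdiv : (V.card : ℤ) * (∑ χ ∈ B, c χ t * m χ) = r * Mt := by
    apply Int.cast_injective (α := ℂ)
    push_cast
    rw [← hS, Finset.mul_sum]
    exact Finset.sum_congr rfl fun χ _ => by rw [hc χ t htV]; ring
  have hE0 : ∑ χ ∈ B, E χ t * (χ : G → ℂ) t = 0 := by
    have hG : (Nat.card G : ℂ) ≠ 0 := Nat.cast_ne_zero.2 Nat.card_pos.ne'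
    apply mul_left_cancel₀ hG
    rw [mul_zero, Finset.mul_sum]
    calc ∑ χ ∈ B, (Nat.card G : ℂ) * (E χ t * (χ : G → ℂ) t)
        = ∑ χ ∈ B, ∑ g : G, (χ : G → ℂ) (t * (x g * t * (x g)⁻¹)) * conj ((χ : G → ℂ) t) := by
          refine Finset.sum_congr rfl fun χ hχ => ?_
          rw [← mul_assoc, hident χ (Finset.mem_filter.1 hχ).2 t ht, Finset.sum_mul, hconj]
      _ = 0 := by
          rw [Finset.sum_comm]
          refine Finset.sum_eq_zero fun g _ => horth _ _ ?_
          refine Blocks.weak_orthogonality hM (Blocks.blockCoeff_mem_loc hBp) ?_ (by rw [hto])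
          exact fun e => (Nat.not_even_iff_odd.2 (hxodd g t ht)) (even_iff_two_dvd.2 e)
  have h10 : ∑ χ ∈ B, (χ : G → ℂ) 1 * (χ : G → ℂ) t = 0 := by
    have := horth 1 t (Blocks.weak_orthogonality hM (Blocks.blockCoeff_mem_loc hBp)
      (by rw [orderOf_one]; norm_num) (by rw [hto]))
    exact (Finset.sum_congr rfl fun χ _ => by rw [hconj]).trans this
  have hmain : ∑ χ ∈ B, ((c χ t : ℝ) ^ 2 * ((V.card : ℝ) * m χ) / (d χ : ℝ)) = (r : ℝ) * Mt := by
    apply Complex.ofReal_injective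
    push_cast
    calc ∑ χ ∈ B, ((c χ t : ℂ) ^ 2 * ((V.card : ℂ) * m χ) / (d χ : ℂ))
        = ∑ χ ∈ B, (E χ t * (χ : G → ℂ) t + (χ : G → ℂ) t * ((V.card : ℂ) * m χ) -
            (χ : G → ℂ) 1 * (χ : G → ℂ) t) := by
          refine Finset.sum_congr rfl fun χ _ => ?_
          simp only [E, hc χ t htV, hd χ]; ring
      _ = (r : ℂ) * Mt := by
          rw [Finset.sum_sub_distrib, Finset.sum_add_distrib, hE0, h10, hS, zero_add, sub_zero]
  have htriv : CT.trivIrr G ∈ B :=
    Finset.mem_filter.2 ⟨Finset.mem_univ _, Blocks.self_mem_blockOf (CT.trivIrr G)⟩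
  have hct : ∀ v ∈ V, c (CT.trivIrr G) v = 1 := fun v hv => by
    have h := (hc (CT.trivIrr G) v hv).symm
    rw [CT.trivIrr_apply] at h
    exact_mod_cast h
  have hdt : d (CT.trivIrr G) = 1 := hct 1 h1V
  have hmt : m (CT.trivIrr G) = 1 := by
    have h := hm (CT.trivIrr G)
    simp only [CT.trivIrr_apply, Finset.sum_const, nsmul_eq_mul, mul_one] at h
    have h0 : (V.card : ℂ) ≠ 0 := Nat.cast_ne_zero.2 (Finset.card_ne_zero.2 ⟨1, h1V⟩)
    exact_mod_cast (mul_left_cancel₀ h0 ((mul_one _).trans h)).symm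
  rw [← Finset.add_sum_erase _ _ htriv] at hmain
  have hle : ∑ χ ∈ B.erase (CT.trivIrr G),
      ((c χ t : ℝ) ^ 2 * ((V.card : ℝ) * m χ) / (d χ : ℝ)) ≤
      ∑ χ ∈ B.erase (CT.trivIrr G), 2 * (c χ t : ℝ) ^ 2 := by
    refine Finset.sum_le_sum fun χ hχ => ?_
    obtain ⟨hne, hχB⟩ := Finset.mem_erase.1 hχ
    have hdR : (0 : ℝ) < (d χ : ℝ) := by exact_mod_cast hd0 χ
    rw [div_le_iff₀ hdR]
    have hb : (V.card : ℝ) * m χ ≤ 2 * (d χ : ℝ) := by
      exact_mod_cast hbound χ (Finset.mem_filter.1 hχB).2 hne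
    nlinarith [sq_nonneg (c χ t : ℝ)]
  have hMt' : (Mt : ℝ) = 1 + ∑ χ ∈ B.erase (CT.trivIrr G), (c χ t : ℝ) ^ 2 := by
    rw [hMt, Int.cast_sum, ← Finset.add_sum_erase _ _ htriv, hct t htV]
    simp
  rw [← Finset.mul_sum] at hle
  rw [hct t htV, hdt, hmt] at hmain
  simp only [Int.cast_one, one_pow, Nat.cast_one, one_mul, mul_one, div_one] at hmain
  have hineq : ((r : ℤ) - 2) * Mt ≤ (V.card : ℤ) - 2 := by
    have : ((r : ℝ) - 2) * (Mt : ℝ) ≤ (V.card : ℝ) - 2 := by linarith
    exact_mod_cast this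
  have hMpos : 1 ≤ Mt := by
    have : (1 : ℝ) ≤ (Mt : ℝ) := by
      rw [hMt']; exact le_add_of_nonneg_right (Finset.sum_nonneg fun χ _ => sq_nonneg _)
    exact_mod_cast this
  obtain ⟨k, hk⟩ := hcard
  have hcop : IsCoprime (V.card : ℤ) (r : ℤ) := by
    rw [Int.isCoprime_iff_nat_coprime, Int.natAbs_natCast, Int.natAbs_natCast, hk]
    exact (Nat.coprime_two_left.2 hr).pow_left k
  have hdvd : (V.card : ℤ) ∣ Mt := hcop.dvd_of_dvd_mul_left ⟨_, hdiv.symm⟩
  have hVM := Int.le_of_dvd (by omega) hdvd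
  have hr3' : (3 : ℤ) ≤ r := by exact_mod_cast hr3
  nlinarith

end Cfsg.Agent.ExtClosed
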