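import Mathlib.GroupTheory.Transfer
import Mathlib.GroupTheory.SchurZassenhaus
import Cfsg.Prelude.Def_SubgroupEmbedding
import Cfsg.Agent.Lib.ExtClosed.Chars
import Cfsg.Agent.Lib.Blocks.Knorr
import Cfsg.Agent.Lib.InvChar.BrauerSuzuki
import Cfsg.Agent.Lib.Basics.Cores
import Cfsg.Agent.Lib.Basics.Tools

/-!
Extremely closed abelian `2`-subgroups are central modulo the odd core, up to their normaliser.
-/

set_option autoImplicit false
set_option linter.all false

namespace Cfsg.Agent.ExtClosed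

open Subgroup Cfsg Cfsg.Agent
open scoped Pointwise

universe u

section Basic

variable {G : Type u} [Group G]

/-- The conjugate `k H k⁻¹`. -/
def cj (k : G) (H : Subgroup G) : Subgroup G := H.map (MulAut.conj k).toMonoidHom

theorem mem_cj {k y : G} {H : Subgroup G} : y ∈ cj k H ↔ k⁻¹ * y * k ∈ H := by
  constructor
  · rintro ⟨h, hh, rfl⟩
    show k⁻¹ * (k * h * k⁻¹) * k ∈ H
    rwa [show k⁻¹ * (k * h * k⁻¹) * k = h by group]
  · intro h
    exact ⟨_, h, show k * (k⁻¹ * y * k) * k⁻¹ = y by group⟩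

theorem conj_mem_cj {k y : G} {H : Subgroup G} (h : y ∈ H) : k * y * k⁻¹ ∈ cj k H :=
  ⟨y, h, rfl⟩

theorem cj_mul (a b : G) (H : Subgroup G) : cj (a * b) H = cj a (cj b H) := by
  ext y
  rw [mem_cj, mem_cj, mem_cj]
  rw [show (a * b)⁻¹ * y * (a * b) = b⁻¹ * (a⁻¹ * y * a) * b by group]

theorem cj_one (H : Subgroup G) : cj 1 H = H := by
  ext y
  rw [mem_cj]
  simp

theorem card_cj (k : G) (H : Subgroup G) : Nat.card (cj k H) = Nat.card H :=
  card_map_of_injective (MulAut.conj k).injective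

theorem isPGroup_cj {p : ℕ} {H : Subgroup G} (hH : IsPGroup p H) (k : G) : IsPGroup p (cj k H) :=
  hH.map _

theorem cj_normal (M : Subgroup G) [hM : M.Normal] (g : G) : cj g M = M := by
  ext y
  rw [mem_cj]
  refine ⟨fun h => ?_, fun h => by simpa using hM.conj_mem y h g⁻¹⟩
  have := hM.conj_mem _ h g
  rwa [show g * (g⁻¹ * y * g) * g⁻¹ = y by group] at this

theorem normalizer_cj (k : G) {H X : Subgroup G} (h : H ≤ normalizer (X : Set G)) :
    cj k H ≤ normalizer (cj k X : Set G) :=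
  (Subgroup.map_mono h).trans (le_normalizer_map _)

variable [Finite G]

theorem inf_eq_bot_of_odd {X H : Subgroup G} (hX : Odd (Nat.card X)) (hH : IsPGroup 2 H) :
    X ⊓ H = ⊥ := by
  haveI : Fact (Nat.Prime 2) := ⟨Nat.prime_two⟩
  obtain ⟨n, hn⟩ := IsPGroup.iff_card.1 hH
  exact Subgroup.inf_eq_bot_of_coprime (hn ▸ (Nat.coprime_two_right.2 hX).pow_right n)

/-- Two-subgroups of `X ⋊ H`, `X` odd, are conjugate into `H` by `X`. -/
theorem le_conj {X H T : Subgroup G} (hX : Odd (Nat.card X)) (hH : IsPGroup 2 H)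
    (hHX : H ≤ normalizer (X : Set G)) (hT : IsPGroup 2 T) (hTK : T ≤ X ⊔ H) :
    ∃ k ∈ X, T ≤ cj k H := by
  haveI : Fact (Nat.Prime 2) := ⟨Nat.prime_two⟩
  set K := X ⊔ H with hK
  have hS : IsPGroup 2 (H.subgroupOf K) := hH.comap_of_injective K.subtype K.subtype_injective
  have hidx : ¬ 2 ∣ (H.subgroupOf K).index := by
    have h1 := Basics.card_mul_card_eq_card_sup_mul_card_inf hHX
    rw [inf_eq_bot_of_odd hX hH, card_bot, mul_one] at h1
    have h2 := (H.subgroupOf K).card_mul_index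
    rw [Nat.card_congr (subgroupOfEquivOfLe (le_sup_right : H ≤ K)).toEquiv, hK, ← h1,
      mul_comm (Nat.card X)] at h2
    rw [Nat.eq_of_mul_eq_mul_left Nat.card_pos h2]
    exact fun e => Nat.not_even_iff_odd.2 hX (even_iff_two_dvd.2 e)
  set S : Sylow 2 K := hS.toSylow hidx with hSdef
  obtain ⟨Q, hQ⟩ := (hT.comap_of_injective K.subtype K.subtype_injective).exists_le_sylow
  obtain ⟨k, hk⟩ := MulAction.exists_smul_eq K S Q
  obtain ⟨a, ha, h, hh, hka⟩ := (Basics.mem_sup_of_le_normalizer hHX).1 k.2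
  refine ⟨a, ha, fun y hy => mem_cj.2 ?_⟩
  have h1 : (⟨y, hTK hy⟩ : K) ∈ (Q : Subgroup K) := hQ (show (⟨y, hTK hy⟩ : K) ∈ T.subgroupOf K from hy)
  rw [← hk, Sylow.coe_subgroup_smul, Subgroup.mem_pointwise_smul_iff_inv_smul_mem] at h1
  have h2 : (k : G)⁻¹ * y * k ∈ H := by
    have h3 := h1
    rw [hSdef] at h3
    simp only [IsPGroup.toSylow_coe, MulAut.smul_def, mem_subgroupOf] at h3
    simpa using h3
  rw [hka] at h2
  have := H.mul_mem (H.mul_mem hh h2) (H.inv_mem hh)
  rwa [show h * ((a * h)⁻¹ * y * (a * h)) * h⁻¹ = a⁻¹ * y * a by group] at this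

/-- The same, inside a subgroup containing `H`. -/
theorem le_conj_in {X H T L : Subgroup G} (hX : Odd (Nat.card X)) (hH : IsPGroup 2 H)
    (hHX : H ≤ normalizer (X : Set G)) (hT : IsPGroup 2 T) (hTK : T ≤ X ⊔ H) (hHL : H ≤ L)
    (hTL : T ≤ L) : ∃ k ∈ X ⊓ L, T ≤ cj k H := by
  refine le_conj (hX.of_dvd_nat (card_dvd_of_le inf_le_left)) hH (fun h hh => ?_) hT fun y hy => ?_
  · rw [mem_normalizer_iff]
    intro x
    constructor
    · exact fun hx => ⟨(mem_normalizer_iff.1 (hHX hh) x).1 hx.1,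
        L.mul_mem (L.mul_mem (hHL hh) hx.2) (L.inv_mem (hHL hh))⟩
    · intro hx
      refine ⟨(mem_normalizer_iff.1 (hHX hh) x).2 hx.1, ?_⟩
      have := L.mul_mem (L.mul_mem (L.inv_mem (hHL hh)) hx.2) (hHL hh)
      rwa [show h⁻¹ * (h * x * h⁻¹) * h = x by group] at this
  · obtain ⟨a, ha, h, hh, rfl⟩ := (Basics.mem_sup_of_le_normalizer hHX).1 (hTK hy)
    refine mul_mem (mem_sup_left ⟨ha, ?_⟩) (mem_sup_right hh)
    have := L.mul_mem (hTL hy) (L.inv_mem (hHL hh))
    rwa [mul_inv_cancel_right] at this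

/-- Every conjugate of `H` is a conjugate by an element of an `H`-invariant odd subgroup. -/
def Wit (H : Subgroup G) : Prop :=
  ∀ g : G, ∃ X : Subgroup G, Odd (Nat.card X) ∧ H ≤ normalizer (X : Set G) ∧
    ∃ x ∈ X, cj g H = cj x H

theorem cj_le_sup {X H : Subgroup G} {x : G} (hx : x ∈ X) : cj x H ≤ X ⊔ H := by
  rintro _ ⟨h, hh, rfl⟩
  exact mul_mem (mul_mem (mem_sup_left hx) (mem_sup_right hh)) (inv_mem (mem_sup_left hx))

theorem Wit.tight {H : Subgroup G} (hW : Wit H) (hH : IsPGroup 2 H) (g : G) :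
    ∃ X : Subgroup G, Odd (Nat.card X) ∧ X ≤ H ⊔ cj g H ∧ H ≤ normalizer (X : Set G) ∧
      ∃ x ∈ X, cj g H = cj x H := by
  obtain ⟨X, hX, hHX, x, hx, he⟩ := hW g
  obtain ⟨k, hk, hle⟩ := le_conj_in (L := H ⊔ cj g H) hX hH hHX (isPGroup_cj hH g)
    (he ▸ cj_le_sup hx) le_sup_left le_sup_right
  refine ⟨X ⊓ (H ⊔ cj g H), hX.of_dvd_nat (card_dvd_of_le inf_le_left), inf_le_right,
    fun h hh => ?_, k, hk, eq_of_le_of_card_ge hle (by rw [card_cj, card_cj])⟩
  have hhL : h ∈ H ⊔ cj g H := mem_sup_left hh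
  rw [mem_normalizer_iff]
  intro y
  constructor
  · exact fun hy => ⟨(mem_normalizer_iff.1 (hHX hh) y).1 hy.1,
      (H ⊔ cj g H).mul_mem ((H ⊔ cj g H).mul_mem hhL hy.2) ((H ⊔ cj g H).inv_mem hhL)⟩
  · intro hy
    refine ⟨(mem_normalizer_iff.1 (hHX hh) y).2 hy.1, ?_⟩
    have := mul_mem (mul_mem (inv_mem hhL) hy.2) hhL
    rwa [show h⁻¹ * (h * y * h⁻¹) * h = y by group] at this

theorem Wit.conj {H : Subgroup G} (hW : Wit H) (k : G) : Wit (cj k H) := by
  intro g
  obtain ⟨X, hX, hHX, x, hx, he⟩ := hW (k⁻¹ * g * k)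
  refine ⟨cj k X, by rwa [card_cj], normalizer_cj k hHX, k * x * k⁻¹, conj_mem_cj hx, ?_⟩
  rw [← cj_mul, show g * k = k * (k⁻¹ * g * k) by group, cj_mul, he, ← cj_mul, ← cj_mul]
  congr 1
  group

theorem Wit.inf_normal {H : Subgroup G} (hW : Wit H) (M : Subgroup G) [M.Normal] :
    Wit (H ⊓ M) := by
  intro g
  obtain ⟨X, hX, hHX, x, hx, he⟩ := hW g
  refine ⟨X, hX, inf_le_left.trans hHX, x, hx, ?_⟩
  have h1 : ∀ a : G, cj a (H ⊓ M) = cj a H ⊓ M := fun a => by
    rw [cj, map_inf _ _ _ (MulAut.conj a).injective]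
    exact congrArg _ (cj_normal M a)
  rw [h1, h1, he]

theorem cj_subgroupOf {H L : Subgroup G} (g : L) :
    (cj (g : G) H).subgroupOf L = cj g (H.subgroupOf L) := by
  ext y
  rw [mem_subgroupOf, mem_cj, mem_cj, mem_subgroupOf]
  simp

theorem Wit.subgroupOf {H L : Subgroup G} (hW : Wit H) (hH : IsPGroup 2 H) (hHL : H ≤ L) :
    Wit (H.subgroupOf L) := by
  intro g
  obtain ⟨X, hX, hXK, hHX, x, hx, he⟩ := hW.tight hH (g : G)
  have hXL : X ≤ L := hXK.trans (sup_le hHL (by
    rintro _ ⟨h, hh, rfl⟩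
    exact L.mul_mem (L.mul_mem g.2 (hHL hh)) (L.inv_mem g.2)))
  refine ⟨X.subgroupOf L, by rwa [Nat.card_congr (subgroupOfEquivOfLe hXL).toEquiv], ?_,
    ⟨x, hXL hx⟩, hx, ?_⟩
  · intro h hh
    rw [mem_normalizer_iff]
    exact fun y => mem_normalizer_iff.1 (hHX hh) y
  · rw [← cj_subgroupOf, ← cj_subgroupOf, he]

theorem cj_map {Q : Type u} [Group Q] (φ : G →* Q) (g : G) (H : Subgroup G) :
    (cj g H).map φ = cj (φ g) (H.map φ) := by
  rw [cj, cj, Subgroup.map_map, Subgroup.map_map]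
  congr 1
  ext y
  simp [MulAut.conj_apply]

theorem Wit.map {Q : Type u} [Group Q] [Finite Q] {φ : G →* Q} (hφ : Function.Surjective φ)
    {H : Subgroup G} (hW : Wit H) : Wit (H.map φ) := by
  intro q
  obtain ⟨g, rfl⟩ := hφ q
  obtain ⟨X, hX, hHX, x, hx, he⟩ := hW g
  exact ⟨X.map φ, hX.of_dvd_nat (card_map_dvd X φ),
    (Subgroup.map_mono hHX).trans (le_normalizer_map _), φ x, mem_map_of_mem _ hx,
    by rw [← cj_map, ← cj_map, he]⟩

theorem Wit.eq_of_le_core {H : Subgroup G} (hW : Wit H) (hH : IsPGroup 2 H)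
    (hQ : H ≤ Cfsg.pCore 2 G) (g : G) : cj g H = H := by
  haveI : Fact (Nat.Prime 2) := ⟨Nat.prime_two⟩
  obtain ⟨X, hX, hXK, -, x, hx, he⟩ := hW.tight hH g
  have hXQ : X ≤ Cfsg.pCore 2 G :=
    hXK.trans (sup_le hQ ((Subgroup.map_mono hQ).trans (cj_normal _ g).le))
  have hbot : X = ⊥ := by
    rw [← inf_eq_left.2 hXQ]
    exact inf_eq_bot_of_odd hX (Basics.pCore_isPGroup 2)
  rw [hbot, mem_bot] at hx
  rw [he, hx, cj_one]

theorem normal_of_cj {H : Subgroup G} (h : ∀ g, cj g H = H) : H.Normal :=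
  ⟨fun y hy g => h g ▸ conj_mem_cj hy⟩

/-- From the definition. -/
theorem wit_of_extremelyClosed {H : Subgroup G} (hH : IsPGroup 2 H)
    (hc : ∀ x ∈ H, ∀ y ∈ H, Commute x y) (hcl : Cfsg.IsExtremelyClosed H) : Wit H := by
  haveI : Fact (Nat.Prime 2) := ⟨Nat.prime_two⟩
  intro g
  set K := H ⊔ cj g H with hK
  set H0 := H.subgroupOf K with hH0
  have h0p : IsPGroup 2 H0 := hH.comap_of_injective K.subtype K.subtype_injective
  have hnorm : normalizer (H0 : Set K) = H0 := by
    refine le_antisymm (fun y hy => ?_) Subgroup.le_normalizer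
    have h1 : (y : G) ∈ K ⊓ normalizer (H : Set G) := by
      refine ⟨y.2, mem_normalizer_iff.2 fun z => ?_⟩
      constructor
      · intro hz
        exact (mem_normalizer_iff.1 hy ⟨z, mem_sup_left hz⟩).1 hz
      · intro hz
        have hzK : z ∈ K := by
          have := K.mul_mem (K.mul_mem (K.inv_mem y.2) (mem_sup_left hz : _ ∈ K)) y.2
          rwa [show (y : G)⁻¹ * ((y : G) * z * (y : G)⁻¹) * y = z by group] at this
        exact (mem_normalizer_iff.1 hy ⟨z, hzK⟩).2 hz
    exact (hcl g).le h1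
  have hidx : ¬ 2 ∣ H0.index := by
    obtain ⟨n, hn⟩ := IsPGroup.iff_card.1 h0p
    have h := Sylow.card_quotient_normalizer_modEq_card_quotient hn
    rw [← Subgroup.index_eq_card, ← Subgroup.index_eq_card, comap_subtype,
      ← Subgroup.relIndex, hnorm, relIndex_self] at h
    intro e
    rw [Nat.modEq_iff_dvd' (Nat.one_le_iff_ne_zero.2 Subgroup.index_ne_zero_of_finite)] at h
    have := Nat.dvd_sub e h
    have h1 : 1 ≤ H0.index := Nat.one_le_iff_ne_zero.2 Subgroup.index_ne_zero_of_finite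
    rw [Nat.sub_sub_self h1] at this
    exact absurd (Nat.le_of_dvd one_pos this) (by norm_num)
  let S : Sylow 2 K := h0p.toSylow hidx
  have hS : (S : Subgroup K) = H0 := by simp [S]
  have hP : normalizer ((S : Subgroup K) : Set K) ≤ centralizer ((S : Subgroup K) : Set K) := by
    rw [hS, hnorm]
    exact fun y hy => mem_centralizer_iff.2 fun z hz => Subtype.ext (hc z hz y hy).eq
  have hcomp := MonoidHom.ker_transferSylow_isComplement' S hP
  set N := (MonoidHom.transferSylow S hP).ker with hN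
  rw [hS] at hcomp
  have hNc : ¬ 2 ∣ Nat.card N := by rw [← hcomp.index_eq_card]; exact hidx
  set X := N.map K.subtype with hXdef
  have hHX : H ≤ normalizer (X : Set G) := by
    have h1 : (normalizer (N : Set K)).map K.subtype ≤ normalizer (X : Set G) := le_normalizer_map _
    rw [Subgroup.normalizer_eq_top N, ← MonoidHom.range_eq_map, range_subtype] at h1
    exact le_sup_left.trans h1
  have hXodd : Odd (Nat.card X) := by
    rw [hXdef, card_map_of_injective K.subtype_injective, ← Nat.not_even_iff_odd, even_iff_two_dvd]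
    exact hNc
  have hle : cj g H ≤ X ⊔ H := by
    intro y hy
    have hyK : y ∈ K := mem_sup_right hy
    obtain ⟨a, ha, b, hb, he⟩ := (Basics.mem_sup_of_le_normalizer (N := N) (H := H0)
      (fun z _ => Subgroup.normalizer_eq_top N ▸ mem_top z)).1
      (show (⟨y, hyK⟩ : K) ∈ N ⊔ H0 from hcomp.sup_eq_top ▸ mem_top _)
    rw [show y = (a : G) * b from congrArg Subtype.val he]
    exact mul_mem (mem_sup_left ⟨a, ha, rfl⟩) (mem_sup_right hb)
  obtain ⟨k, hk, hkle⟩ := le_conj hXodd hH hHX (isPGroup_cj hH g) hle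
  exact ⟨X, hXodd, hHX, k, hk, eq_of_le_of_card_ge hkle (by rw [card_cj, card_cj])⟩

theorem core_sub_bot (hO : Cfsg.pPrimeCore 2 G = ⊥) (M : Subgroup G) [M.Normal] :
    Cfsg.pPrimeCore 2 M = ⊥ := by
  haveI : Fact (Nat.Prime 2) := ⟨Nat.prime_two⟩
  have hc : Nat.card ((Cfsg.pPrimeCore 2 M).map M.subtype) = Nat.card (Cfsg.pPrimeCore 2 M) :=
    card_map_of_injective M.subtype_injective
  have h := Basics.le_pPrimeCore (p := 2) (N := (Cfsg.pPrimeCore 2 M).map M.subtype)
    (hc ▸ Basics.pPrimeCore_coprime 2)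
  rw [hO, le_bot_iff, map_eq_bot_iff_of_injective _ M.subtype_injective] at h
  exact h

theorem mem_core_of_normal_in_normal {H M : Subgroup G} [M.Normal] (hH : IsPGroup 2 H)
    (hHM : H ≤ M) (hn : (H.subgroupOf M).Normal) : H ≤ Cfsg.pCore 2 G := by
  haveI : Fact (Nat.Prime 2) := ⟨Nat.prime_two⟩
  have h1 : H.subgroupOf M ≤ Cfsg.pCore 2 M :=
    Basics.le_pCore (hH.comap_of_injective M.subtype M.subtype_injective)
  have h2 : (Cfsg.pCore 2 M).map M.subtype ≤ Cfsg.pCore 2 G :=
    Basics.le_pCore (IsPGroup.map (Basics.pCore_isPGroup 2) _)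
  intro y hy
  exact h2 ⟨⟨y, hHM hy⟩, h1 hy, rfl⟩

/-- A central `2`-subgroup modulo which the odd core is trivial. -/
theorem core_quotient_central (hO : Cfsg.pPrimeCore 2 G = ⊥) {A : Subgroup G} [A.Normal]
    (hA : IsPGroup 2 A) (hAc : ∀ a ∈ A, ∀ g : G, Commute a g) :
    Cfsg.pPrimeCore 2 (G ⧸ A) = ⊥ := by
  haveI : Fact (Nat.Prime 2) := ⟨Nat.prime_two⟩
  set R' := Cfsg.pPrimeCore 2 (G ⧸ A) with hR'
  set N := R'.comap (QuotientGroup.mk' A) with hN
  have hAN : A ≤ N := fun a ha => by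
    show QuotientGroup.mk' A a ∈ R'
    rw [QuotientGroup.mk'_apply, (QuotientGroup.eq_one_iff a).2 ha]
    exact one_mem R'
  have hR2 : ¬ 2 ∣ Nat.card R' := Basics.not_dvd_card_pPrimeCore 2
  haveI : (A.subgroupOf N).Normal := inferInstance
  have hidx : (A.subgroupOf N).index = Nat.card R' := by
    have h2 := (A.subgroupOf N).card_mul_index
    rw [Nat.card_congr (subgroupOfEquivOfLe hAN).toEquiv, hN, Basics.card_comap_mk'] at h2
    exact Nat.eq_of_mul_eq_mul_left Nat.card_pos h2
  obtain ⟨n, hn⟩ := IsPGroup.iff_card.1 hA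
  have hcop : (Nat.card (A.subgroupOf N)).Coprime (A.subgroupOf N).index := by
    rw [Nat.card_congr (subgroupOfEquivOfLe hAN).toEquiv, hn, hidx]
    exact ((Nat.prime_two.coprime_iff_not_dvd).2 hR2).pow_left n
  obtain ⟨R, hR⟩ := Subgroup.exists_right_complement'_of_coprime hcop
  set R0 := R.map N.subtype with hR0
  have hcard : Nat.card R0 = Nat.card R' := by
    rw [hR0, card_map_of_injective N.subtype_injective, ← hidx, hR.symm.index_eq_card]
  haveI : R0.Normal := by
    constructor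
    rintro _ ⟨r, hr, rfl⟩ g
    have hgN : g * (r : G) * g⁻¹ ∈ N := (inferInstance : N.Normal).conj_mem _ r.2 g
    obtain ⟨a, ha, b, hb, he⟩ := (Basics.mem_sup_of_le_normalizer (N := A.subgroupOf N) (H := R)
      (fun z _ => Subgroup.normalizer_eq_top (A.subgroupOf N) ▸ mem_top z)).1
      (show (⟨_, hgN⟩ : N) ∈ A.subgroupOf N ⊔ R from hR.sup_eq_top ▸ mem_top _)
    have he' : g * (r : G) * g⁻¹ = (a : G) * b := congrArg Subtype.val he
    have hordR : ∀ z ∈ R, (z : G) ^ Nat.card R' = 1 := fun z hz => by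
      have h1 : orderOf (z : G) ∣ Nat.card R := by
        rw [Subgroup.orderOf_coe]; exact orderOf_dvd_natCard R hz
      rw [hR0, card_map_of_injective N.subtype_injective] at hcard
      exact orderOf_dvd_iff_pow_eq_one.1 (hcard ▸ h1)
    have h1 : (a : G) ^ Nat.card R' = 1 := by
      have h2 : (g * (r : G) * g⁻¹) ^ Nat.card R' = 1 := by
        rw [conj_pow, hordR r hr, mul_one, mul_inv_cancel]
      rwa [he', (hAc a ha b).mul_pow, hordR b hb, mul_one] at h2
    have h3 : orderOf (a : G) ∣ Nat.gcd (Nat.card R') (Nat.card A) :=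
      Nat.dvd_gcd (orderOf_dvd_of_pow_eq_one h1) (orderOf_dvd_natCard A ha)
    rw [hn, Nat.Coprime.pow_right n ((Nat.prime_two.coprime_iff_not_dvd).2 hR2).symm] at h3
    refine ⟨b, hb, ?_⟩
    show (b : G) = g * (r : G) * g⁻¹
    rw [he', orderOf_eq_one_iff.1 (Nat.dvd_one.1 h3), one_mul]
  have hle := Basics.le_pPrimeCore (p := 2) (N := R0) (hcard ▸ Basics.pPrimeCore_coprime 2)
  rw [hO, le_bot_iff] at hle
  rw [hle, card_bot] at hcard
  exact Subgroup.card_eq_one.1 hcard.symm

end Basic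

/-- The involutions of an abelian subgroup. -/
def omega {G : Type u} [Group G] (H : Subgroup G) (hc : ∀ x ∈ H, ∀ y ∈ H, Commute x y) :
    Subgroup G where
  carrier := {x | x ∈ H ∧ x * x = 1}
  one_mem' := ⟨one_mem _, one_mul 1⟩
  mul_mem' := fun {a b} ha hb => ⟨mul_mem ha.1 hb.1, by
    rw [(hc b hb.1 a ha.1).mul_mul_mul_comm, ha.2, hb.2, one_mul]⟩
  inv_mem' := fun {a} ha => ⟨inv_mem ha.1, by rw [← mul_inv_rev, ha.2, inv_one]⟩

theorem mul_self_zpowers {G : Type u} [Group G] {a : G} (ha : a * a = 1) {z : G}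
    (hz : z ∈ zpowers a) : z * z = 1 := by
  obtain ⟨i, rfl⟩ := mem_zpowers_iff.1 hz
  rw [← (Commute.refl a).mul_zpow, ha, one_zpow]

theorem isPGroup_pair {G : Type u} [Group G] {a b : G} (ha : a * a = 1) (hb : b * b = 1)
    (hab : Commute a b) : IsPGroup 2 (zpowers a ⊔ zpowers b : Subgroup G) := by
  have hn : zpowers b ≤ normalizer ((zpowers a : Subgroup G) : Set G) := by
    rw [zpowers_le]
    refine centralizer_le_normalizer _ (mem_centralizer_iff.2 fun z hz => ?_)
    obtain ⟨i, rfl⟩ := mem_zpowers_iff.1 hz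
    exact (hab.zpow_left i).eq
  rintro ⟨z, hz⟩
  obtain ⟨x, hx, y, hy, rfl⟩ := (Basics.mem_sup_of_le_normalizer hn).1 hz
  refine ⟨1, Subtype.ext ?_⟩
  have hxy : Commute x y := by
    obtain ⟨i, rfl⟩ := mem_zpowers_iff.1 hx
    obtain ⟨j, rfl⟩ := mem_zpowers_iff.1 hy
    exact (hab.zpow_left i).zpow_right j
  show (x * y) ^ (2 ^ 1) = 1
  rw [pow_one, sq, hxy.symm.mul_mul_mul_comm, mul_self_zpowers ha hx, mul_self_zpowers hb hy, one_mul]

/-- The induction hypothesis. -/
def Concl {G : Type u} [Group G] (H : Subgroup G) : Prop :=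
  ∀ g : G, cj g H ≤ H ⊔ Cfsg.pPrimeCore 2 G

theorem main : ∀ (n : ℕ) (G : Type u) [Group G] [Finite G], Nat.card G < n → ∀ H : Subgroup G,
    IsPGroup 2 H → (∀ x ∈ H, ∀ y ∈ H, Commute x y) → Wit H → Concl H := by
  intro n
  induction n with
  | zero => intro G _ _ h; omega
  | succ n ih =>
    intro G _ _ hn H hH hc hW
    haveI : Fact (Nat.Prime 2) := ⟨Nat.prime_two⟩
    classical
    by_cases hO : Cfsg.pPrimeCore 2 G = ⊥
    swap
    · set O := Cfsg.pPrimeCore 2 G with hOdef
      have hlt : Nat.card (G ⧸ O) < n := by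
        have h1 := Subgroup.card_eq_card_quotient_mul_card_subgroup O
        have h2 : 1 < Nat.card O := (one_lt_card_iff_ne_bot _).2 hO
        have h3 : 0 < Nat.card (G ⧸ O) := Nat.card_pos
        nlinarith
      have hbot : Cfsg.pPrimeCore 2 (G ⧸ O) = ⊥ := Basics.pPrimeCore_quotient_eq_bot 2
      have h := ih (G ⧸ O) hlt (H.map (QuotientGroup.mk' O)) (hH.map _)
        (by rintro _ ⟨x, hx, rfl⟩ _ ⟨y, hy, rfl⟩; exact (hc x hx y hy).map _)
        (hW.map (QuotientGroup.mk'_surjective O))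
      intro g
      have h1 := h (QuotientGroup.mk' O g)
      rw [hbot, sup_bot_eq, ← cj_map, map_le_iff_le_comap] at h1
      rwa [comap_map_eq, QuotientGroup.ker_mk'] at h1
    -- core free
    suffices hnorm : H.Normal by
      intro g
      rw [cj_normal H g]
      exact le_sup_left
    by_cases hH1 : H = ⊥
    · subst hH1; infer_instance
    have inNormal : ∀ (M : Subgroup G) [M.Normal], M ≠ ⊤ → ∀ A : Subgroup G, IsPGroup 2 A →
        (∀ x ∈ A, ∀ y ∈ A, Commute x y) → Wit A → A ≤ M → A.Normal := by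
      intro M _ hM A hA hAc hAW hAM
      have hlt : Nat.card M < n := by
        have h1 : Nat.card M ≤ Nat.card G := card_le_card_group M
        rcases lt_or_eq_of_le h1 with h | h
        · omega
        · exact absurd (eq_top_of_card_eq M h) hM
      have h := ih M hlt (A.subgroupOf M) (hA.comap_of_injective M.subtype M.subtype_injective)
        (fun x hx y hy => Subtype.ext (hAc x hx y hy).eq) (hAW.subgroupOf hA hAM)
      have hn : (A.subgroupOf M).Normal := by
        constructor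
        intro y hy g
        have h1 := h g (conj_mem_cj hy)
        rwa [core_sub_bot hO M, sup_bot_eq] at h1
      exact normal_of_cj (hAW.eq_of_le_core hA (mem_core_of_normal_in_normal hA hAM hn))
    by_cases hL : normalClosure (H : Set G) = ⊤
    swap
    · haveI hNC : (normalClosure (H : Set G)).Normal := normalClosure_normal
      exact inNormal _ hL H hH hc hW Subgroup.le_normalClosure
    -- a proper normal subgroup meeting `H` gives the result
    have meet : ∀ (M : Subgroup G) [M.Normal], M ≠ ⊤ → H ⊓ M ≠ ⊥ → H.Normal := by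
      intro M _ hM hne
      set A := H ⊓ M with hAdef
      haveI hAn : A.Normal := inNormal M hM A (hH.to_le inf_le_left)
        (fun x hx y hy => hc x hx.1 y hy.1) (hW.inf_normal M) inf_le_right
      have hAc : ∀ a ∈ A, ∀ g : G, Commute a g := by
        intro a ha g
        have htop : centralizer (A : Set G) = ⊤ := by
          haveI hCn : (centralizer (A : Set G)).Normal := @Subgroup.normal_centralizer _ _ A hAn
          rw [eq_top_iff, ← hL]
          exact normalClosure_le_normal fun y hy =>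
            mem_centralizer_iff.2 fun z hz => (hc z hz.1 y hy).eq
        exact mem_centralizer_iff.1 (htop ▸ mem_top g : g ∈ centralizer (A : Set G)) a ha
      have hlt : Nat.card (G ⧸ A) < n := by
        have h1 := Subgroup.card_eq_card_quotient_mul_card_subgroup A
        have h2 : 1 < Nat.card A := (one_lt_card_iff_ne_bot _).2 hne
        have h3 : 0 < Nat.card (G ⧸ A) := Nat.card_pos
        nlinarith
      have h := ih (G ⧸ A) hlt (H.map (QuotientGroup.mk' A)) (hH.map _)
        (by rintro _ ⟨x, hx, rfl⟩ _ ⟨y, hy, rfl⟩; exact (hc x hx y hy).map _)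
        (hW.map (QuotientGroup.mk'_surjective A))
      refine normal_of_cj fun g => ?_
      have h1 := h (QuotientGroup.mk' A g)
      rw [core_quotient_central hO (hH.to_le inf_le_left) hAc, sup_bot_eq, ← cj_map,
        map_le_iff_le_comap, comap_map_eq, QuotientGroup.ker_mk',
        sup_eq_left.2 (inf_le_left : A ≤ H)] at h1
      exact eq_of_le_of_card_ge h1 (by rw [card_cj])
    by_contra hnn
    -- no element of `H` is central
    have hcent : ∀ u ∈ H, u ≠ 1 → centralizer ({u} : Set G) ≠ ⊤ := by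
      intro u hu hu1 htop
      have hmem : u ∈ center G := mem_center_iff.2 fun g =>
        (mem_centralizer_iff.1 (htop ▸ mem_top g : g ∈ centralizer ({u} : Set G)) u rfl).symm
      haveI hZn : (center G).Normal := ⟨fun y hy g => by
        rw [mem_center_iff.1 hy g, mul_inv_cancel_right]; exact hy⟩
      refine hnn (meet (center G) (fun e => hnn ⟨fun y hy g => ?_⟩) fun e => hu1 ?_)
      · rw [mem_center_iff.1 (e ▸ mem_top y : y ∈ center G) g, mul_inv_cancel_right]; exact hy
      · exact mem_bot.1 (e ▸ (show u ∈ H ⊓ center G from ⟨hu, hmem⟩))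
    set V := omega H hc with hVdef
    have hVne : ∃ v ∈ V, v ≠ 1 := by
      haveI : Nontrivial H := H.nontrivial_iff_ne_bot.2 hH1
      obtain ⟨k, hk⟩ := IsPGroup.iff_card.1 hH
      have hk0 : k ≠ 0 := fun e => hH1 (Subgroup.card_eq_one.1 (by rw [hk, e, pow_zero]))
      obtain ⟨v, hv⟩ := exists_prime_orderOf_dvd_card' (G := H) 2 (hk ▸ dvd_pow_self 2 hk0)
      refine ⟨v, ⟨v.2, ?_⟩, fun e => ?_⟩
      · rw [← sq, ← Subgroup.coe_pow, ← hv, pow_orderOf_eq_one]; rfl
      · rw [OneMemClass.coe_eq_one.1 e, orderOf_one] at hv; omega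
    letI := Fintype.ofFinite G
    obtain ⟨Mi, hMi⟩ := Blocks.exists_isPModular Nat.prime_two
    set Vf : Finset G := Finset.univ.filter (· ∈ V) with hVf
    have memVf : ∀ {y : G}, y ∈ Vf ↔ y ∈ V := fun {y} => by simp [hVf]
    have h1Vf : (1 : G) ∈ Vf := memVf.2 (one_mem V)
    obtain ⟨kV, hkV⟩ := IsPGroup.iff_card.1 (hH.to_le (fun y hy => hy.1) : IsPGroup 2 V)
    have hcardV : Vf.card = 2 ^ kV := by
      rw [← hkV, Nat.card_eq_fintype_card, Fintype.card_subtype, hVf]
    -- an odd orbit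
    obtain ⟨t, ht, hr⟩ : ∃ t ∈ Vf.erase 1, Odd (Vf.filter fun v => IsConj t v).card := by
      by_contra e
      push Not at e
      obtain ⟨v, hv, hv1⟩ := hVne
      have hodd : Odd (Vf.erase 1).card := by
        rw [Finset.card_erase_of_mem h1Vf, hcardV]
        have hk0 : kV ≠ 0 := by
          intro e0
          have : Vf.card ≤ 1 := by rw [hcardV, e0, pow_zero]
          exact hv1 (Finset.card_le_one.1 this v (memVf.2 hv) 1 h1Vf)
        exact Nat.Even.sub_odd Nat.one_le_two_pow ((Nat.even_pow' hk0).2 even_two) odd_one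
      have hsum : Even (Vf.erase 1).card := by
        rw [Finset.card_eq_sum_card_fiberwise (f := ConjClasses.mk)
          (t := (Vf.erase 1).image ConjClasses.mk) fun y hy => Finset.mem_image_of_mem _ hy]
        refine Finset.even_sum _ fun C hC => ?_
        obtain ⟨a, ha, rfl⟩ := Finset.mem_image.1 hC
        rw [← Nat.not_odd_iff_even]
        convert e a ha using 3
        ext y
        simp only [Finset.mem_filter, Finset.mem_erase, ConjClasses.mk_eq_mk_iff_isConj]
        refine ⟨fun h => ⟨h.1.2, h.2.symm⟩, fun h => ⟨⟨fun h1 => ?_, h.1⟩, h.2.symm⟩⟩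
        rw [h1, isConj_one_left] at h
        exact (Finset.mem_erase.1 ha).1 h.2
      exact (Nat.not_odd_iff_even.2 hsum) hodd
    obtain ⟨ht1, htV'⟩ := Finset.mem_erase.1 ht
    have htV : t ∈ V := memVf.1 htV'
    by_cases hr1 : (Vf.filter fun v => IsConj t v).card = 1
    · -- isolated
      have hto : orderOf t = 2 := orderOf_eq_prime (by rw [sq]; exact htV.2) ht1
      obtain ⟨S, hS⟩ := hH.exists_le_sylow
      obtain ⟨N, hN, hNodd, hNc⟩ := InvChar.zstarSylow S t hto (hS htV.1) (fun g hg => by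
        obtain ⟨X, hX, hHX, x, hx, he⟩ := hW g
        have hcle : g * t * g⁻¹ ∈ X ⊔ H := cj_le_sup hx (he ▸ conj_mem_cj htV.1)
        have hT : IsPGroup 2 ((S : Subgroup G) ⊓ (X ⊔ H) : Subgroup G) := S.2.to_le inf_le_left
        obtain ⟨k, -, hk⟩ := le_conj hX hH hHX hT inf_le_right
        have hHT : H ≤ (S : Subgroup G) ⊓ (X ⊔ H) := le_inf hS le_sup_right
        have heq : H = cj k H := eq_of_le_of_card_ge (hHT.trans hk) (by rw [card_cj])
        have hmem : g * t * g⁻¹ ∈ H := heq ▸ hk ⟨hg, hcle⟩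
        have hV' : g * t * g⁻¹ ∈ Vf := memVf.2 ⟨hmem, by
          rw [show g * t * g⁻¹ * (g * t * g⁻¹) = g * (t * t) * g⁻¹ by group, htV.2]; group⟩
        exact Finset.card_le_one.1 hr1.le _ (Finset.mem_filter.2 ⟨hV', isConj_iff.2 ⟨g, rfl⟩⟩) t
          (Finset.mem_filter.2 ⟨htV', IsConj.refl t⟩))
      haveI := hN
      have hNbot : N = ⊥ := le_bot_iff.1 (hO ▸ Basics.le_pPrimeCore
        ((Nat.coprime_two_right).2 hNodd))
      refine hcent t htV.1 ht1 (eq_top_iff.2 fun g _ => mem_centralizer_iff.2 ?_)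
      rintro _ rfl
      have h1 := hNc g
      rw [hNbot, mem_bot, mul_inv_eq_one, mul_inv_eq_iff_eq_mul] at h1
      exact h1
    have hr3 : 3 ≤ (Vf.filter fun v => IsConj t v).card := by
      obtain ⟨j, hj⟩ := hr; omega
    have hdata : ∀ g : G, ∃ x : G,
        (∀ F : G → ℂ, ∑ s ∈ Vf.erase 1, F (g * s * g⁻¹) = ∑ b ∈ Vf.erase 1, F (x * b * x⁻¹)) ∧
        (∀ t ∈ Vf.erase 1, Odd (orderOf (t * (x * t * x⁻¹)))) ∧
        ∀ t ∈ Vf.erase 1, ∀ b ∈ Vf.erase 1, t ≠ b → ∀ χ : IrrCharacter G,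
          χ ∈ principalBlock Mi G → (χ : G → ℂ) (t * (x * b * x⁻¹)) = (χ : G → ℂ) (t * b) := by
      intro g
      obtain ⟨X, hX, hHX, x, hx, he⟩ := hW g
      have hnX : ∀ h ∈ H, ∀ y ∈ X, h * y * h⁻¹ ∈ X := fun h hh y hy =>
        (mem_normalizer_iff.1 (hHX hh) y).1 hy
      refine ⟨x, fun F => ?_, fun t ht => ?_, ?_⟩
      · have him : ∀ a b : G, cj a H = cj b H → ∀ y ∈ Vf.erase 1,
            b⁻¹ * (a * y * a⁻¹) * b ∈ Vf.erase 1 := by
          intro a b hab y hy
          obtain ⟨hy1, hyV⟩ := Finset.mem_erase.1 hy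
          refine Finset.mem_erase.2 ⟨fun e => hy1 ?_, memVf.2 ⟨?_, ?_⟩⟩
          · have : y = a⁻¹ * b * (b⁻¹ * (a * y * a⁻¹) * b) * b⁻¹ * a := by group
            rw [this, e]; group
          · exact mem_cj.1 (hab ▸ conj_mem_cj (memVf.1 hyV).1)
          · calc b⁻¹ * (a * y * a⁻¹) * b * (b⁻¹ * (a * y * a⁻¹) * b)
                = b⁻¹ * a * (y * y) * a⁻¹ * b := by group
              _ = 1 := by rw [(memVf.1 hyV).2]; group
        refine Finset.sum_bij' (fun y _ => x⁻¹ * (g * y * g⁻¹) * x)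
          (fun y _ => g⁻¹ * (x * y * x⁻¹) * g) (him g x he) (him x g he.symm) ?_ ?_ ?_
        · intro y _; group
        · intro y _; group
        · intro y _
          exact congrArg F (by group)
      · obtain ⟨-, ht⟩ := Finset.mem_erase.1 ht
        obtain ⟨htH, htt⟩ := memVf.1 ht
        have hmem : t * (x * t * x⁻¹) ∈ X := by
          have h1 := X.mul_mem (hnX t htH x hx) (X.inv_mem hx)
          rwa [inv_eq_of_mul_eq_one_right htt,
            show t * x * t * x⁻¹ = t * (x * t * x⁻¹) by group] at h1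
        exact hX.of_dvd_nat (orderOf_dvd_natCard X hmem)
      · intro t ht b hb htb χ hχ
        obtain ⟨-, ht⟩ := Finset.mem_erase.1 ht
        obtain ⟨-, hb⟩ := Finset.mem_erase.1 hb
        obtain ⟨htH, htt⟩ := memVf.1 ht
        obtain ⟨hbH, hbb⟩ := memVf.1 hb
        have htinv : t⁻¹ = t := inv_eq_of_mul_eq_one_right htt
        set u := t * b with hu
        have huH : u ∈ H := H.mul_mem htH hbH
        have huu : u * u = 1 := by
          rw [hu, (hc b hbH t htH).mul_mul_mul_comm, htt, hbb, one_mul]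
        have hu1 : u ≠ 1 := fun e => htb (by
          rw [← htinv]; exact inv_eq_of_mul_eq_one_right e)
        have huinv : u⁻¹ = u := inv_eq_of_mul_eq_one_right huu
        set c := x * b * x⁻¹ with hcdef
        have hcc : c * c = 1 := by
          rw [hcdef, show x * b * x⁻¹ * (x * b * x⁻¹) = x * (b * b) * x⁻¹ by group, hbb]; group
        set w := t * c with hw
        have hwu : w * u⁻¹ ∈ X := by
          have h1 := X.mul_mem (hnX t htH x hx) (hnX u huH x⁻¹ (X.inv_mem hx))
          rw [show t * x * t⁻¹ * (u * x⁻¹ * u⁻¹) = t * x * (t⁻¹ * u) * x⁻¹ * u⁻¹ by group,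
            show t⁻¹ * u = b by rw [hu, inv_mul_cancel_left]] at h1
          rwa [hw, hcdef, show t * (x * b * x⁻¹) = t * x * b * x⁻¹ by group]
        have hw2 : w * w ∈ X := by
          have h1 := X.mul_mem hwu (hnX u huH _ hwu)
          rwa [show w * u⁻¹ * (u * (w * u⁻¹) * u⁻¹) = w * w * (u⁻¹ * u⁻¹) by group, huinv, huu,
            mul_one] at h1
        have hX' := hX
        obtain ⟨i, hi⟩ : ∃ i, Nat.card X = 2 * i + 1 := hX'
        set u' := w * (w * w) ^ i with hu'
        have hw2j : (w * w) ^ (2 * i + 1) = 1 := by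
          rw [← hi]
          exact orderOf_dvd_iff_pow_eq_one.1 (orderOf_dvd_natCard X hw2)
        have hcw : Commute w ((w * w) ^ i) := ((Commute.refl w).mul_right (Commute.refl w)).pow_right i
        have hu'2 : u' * u' = 1 := by
          rw [hu', hcw.symm.mul_mul_mul_comm, ← pow_add, ← pow_succ', show i + i + 1 = 2 * i + 1 by omega, hw2j]
        have hu'u : u' * u⁻¹ ∈ X := by
          have h1 := X.mul_mem hwu (hnX u huH _ (X.pow_mem hw2 i))
          rwa [show w * u⁻¹ * (u * (w * w) ^ i * u⁻¹) = u' * u⁻¹ by rw [hu']; group] at h1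
        have hu'K : u' ∈ X ⊔ H := by
          have := (X ⊔ H).mul_mem (mem_sup_left hu'u) (mem_sup_right huH : u ∈ X ⊔ H)
          rwa [inv_mul_cancel_right] at this
        have hu'inv : u'⁻¹ = u' := inv_eq_of_mul_eq_one_right hu'2
        have hwt : t * w * t⁻¹ = w⁻¹ := by
          rw [hw, mul_inv_rev, inv_eq_of_mul_eq_one_right hcc, htinv, ← mul_assoc t t c, htt, one_mul]
        have hwu' : Commute w u' := (Commute.refl w).mul_right hcw
        have htu' : Commute t u' := by
          have h1 : t * u' * t⁻¹ = u'⁻¹ := by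
            calc t * u' * t⁻¹ = (t * w * t⁻¹) * (t * (w * w) ^ i * t⁻¹) := by rw [hu']; group
              _ = w⁻¹ * ((t * w * t⁻¹) * (t * w * t⁻¹)) ^ i := by
                rw [← conj_pow, hwt]
                congr 2
                rw [← hwt]; group
              _ = u'⁻¹ := by
                rw [hwt, ← mul_inv_rev, inv_pow, ← mul_inv_rev, hu', hcw.eq]
          rw [hu'inv] at h1
          exact mul_inv_eq_iff_eq_mul.1 h1
        have hceq : c = t * w := by rw [hw, ← mul_assoc, htt, one_mul]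
        have hcu' : Commute c u' := hceq ▸ htu'.mul_left hwu'
        have htK : t ∈ X ⊔ H := mem_sup_right htH
        have hcK : c ∈ X ⊔ H :=
          mul_mem (mul_mem (mem_sup_left hx) (mem_sup_right hbH)) (inv_mem (mem_sup_left hx))
        obtain ⟨k1, hk1, hle1⟩ := le_conj hX hH hHX (isPGroup_pair htt hu'2 htu')
          (sup_le (zpowers_le.2 htK) (zpowers_le.2 hu'K))
        obtain ⟨k2, hk2, hle2⟩ := le_conj hX hH hHX (isPGroup_pair hcc hu'2 hcu')
          (sup_le (zpowers_le.2 hcK) (zpowers_le.2 hu'K))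
        have hu'H1 := mem_cj.1 (hle1 (mem_sup_right (mem_zpowers u')))
        -- `u'` is conjugate to `u`
        have hu'eq : u' = k1 * u * k1⁻¹ := by
          have h1 : k1⁻¹ * u' * k1 * u⁻¹ ∈ X ⊓ H := by
            refine ⟨?_, H.mul_mem hu'H1 (H.inv_mem huH)⟩
            have h2 := X.mul_mem (X.mul_mem (X.inv_mem hk1) hu'u) (hnX u huH k1 hk1)
            rwa [show k1⁻¹ * (u' * u⁻¹) * (u * k1 * u⁻¹) = k1⁻¹ * u' * k1 * u⁻¹ by group] at h2
          rw [inf_eq_bot_of_odd hX hH, mem_bot, mul_inv_eq_one] at h1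
          rw [← h1]; group
        have hu'o : orderOf u' = 2 := by
          refine orderOf_eq_prime (by rw [sq]; exact hu'2) fun e => hu1 ?_
          rw [hu'eq, conj_eq_one_iff] at e
          exact e
        set L := centralizer ({u'} : Set G) with hL'
        have hLne : L ≠ ⊤ := by
          intro e
          refine hcent u huH hu1 (eq_top_iff.2 fun y _ => mem_centralizer_iff.2 ?_)
          rintro _ rfl
          have h1 : Commute u' (k1 * y * k1⁻¹) :=
            mem_centralizer_iff.1 (e ▸ mem_top _ : k1 * y * k1⁻¹ ∈ L) u' rfl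
          have h2 := h1.map (MulAut.conj k1⁻¹).toMonoidHom
          rw [hu'eq] at h2
          have h3 : Commute u y := by simpa [mul_assoc] using h2
          exact h3.eq
        have inL : ∀ k, u' ∈ cj k H → cj k H ≤ L := by
          intro k hk y hy
          rw [hL', mem_centralizer_iff]
          rintro _ rfl
          obtain ⟨a, ha, hae⟩ := hk
          obtain ⟨a', ha', rfl⟩ := hy
          rw [← hae]
          exact ((hc a ha a' ha').map _).eq
        set H1 := cj k1 H with hH1def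
        have hH1L : H1 ≤ L := inL k1 (hle1 (mem_sup_right (mem_zpowers u')))
        have hH2L : cj k2 H ≤ L := inL k2 (hle2 (mem_sup_right (mem_zpowers u')))
        have hXk1 : cj k1 X = X := by
          refine eq_of_le_of_card_ge ?_ (by rw [card_cj])
          rintro _ ⟨y, hy, rfl⟩
          exact X.mul_mem (X.mul_mem hk1 hy) (X.inv_mem hk1)
        have hH1X : H1 ≤ normalizer (X : Set G) := by
          have := normalizer_cj k1 hHX
          rwa [hXk1] at this
        have hH2K : cj k2 H ≤ X ⊔ H1 := by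
          have h1 : H ≤ X ⊔ H1 := fun h hh => by
            have := (X ⊔ H1).mul_mem ((X ⊔ H1).mul_mem
              (mem_sup_left (X.inv_mem hk1) : k1⁻¹ ∈ X ⊔ H1)
              (mem_sup_right (conj_mem_cj hh) : k1 * h * k1⁻¹ ∈ X ⊔ H1)) (mem_sup_left hk1)
            rwa [show k1⁻¹ * (k1 * h * k1⁻¹) * k1 = h by group] at this
          exact (cj_le_sup hk2).trans (sup_le le_sup_left h1)
        obtain ⟨k, hk, hkle⟩ := le_conj_in hX (isPGroup_cj hH k1) hH1X (isPGroup_cj hH k2) hH2K
          hH1L hH2L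
        have hlt : Nat.card L < n := by
          rcases lt_or_eq_of_le (card_le_card_group L) with h | h
          · omega
          · exact absurd (eq_top_of_card_eq L h) hLne
        have hH1p : IsPGroup 2 (H1.subgroupOf L) :=
          (isPGroup_cj hH k1).comap_of_injective L.subtype L.subtype_injective
        have hind := ih L hlt (H1.subgroupOf L) hH1p
          (by
            intro a ha b hb
            obtain ⟨a', ha', hae⟩ := ha
            obtain ⟨b', hb', hbe⟩ := hb
            apply Subtype.ext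
            show (a : G) * b = b * a
            have e1 : (a : G) = k1 * a' * k1⁻¹ := hae.symm
            have e2 : (b : G) = k1 * b' * k1⁻¹ := hbe.symm
            rw [e1, e2]
            exact ((hc a' ha' b' hb').map (MulAut.conj k1).toMonoidHom).eq)
          ((hW.conj k1).subgroupOf (isPGroup_cj hH k1) hH1L)
        set OL := Cfsg.pPrimeCore 2 L with hOL
        have hcL : c ∈ L := hH2L (hle2 (mem_sup_left (mem_zpowers c)))
        have htL : t ∈ L := hH1L (hle1 (mem_sup_left (mem_zpowers t)))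
        have hu'L : u' ∈ L := hH1L (hle1 (mem_sup_right (mem_zpowers u')))
        have hcmem : (⟨c, hcL⟩ : L) ∈ H1.subgroupOf L ⊔ OL := by
          refine hind ⟨k, hk.2⟩ (mem_cj.2 ?_)
          show k⁻¹ * c * k ∈ H1
          exact mem_cj.1 (hkle (hle2 (mem_sup_left (mem_zpowers c))))
        have htmem : (⟨t, htL⟩ : L) ∈ H1.subgroupOf L ⊔ OL :=
          mem_sup_left (hle1 (mem_sup_left (mem_zpowers t)) : t ∈ H1)
        have humem : (⟨u', hu'L⟩ : L) ∈ H1.subgroupOf L ⊔ OL :=
          mem_sup_left (hle1 (mem_sup_right (mem_zpowers u')) : u' ∈ H1)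
        set z := w * u' with hz
        have hzj : z ^ Nat.card X = 1 := by
          have h1 : z = (w * w) ^ (i + 1) := by
            rw [hz, hu', ← mul_assoc, ← pow_succ']
          rw [h1, ← pow_mul, mul_comm, pow_mul, hi, hw2j, one_pow]
        let z' : L := ⟨t, htL⟩ * ⟨c, hcL⟩ * ⟨u', hu'L⟩
        have hz'mem : z' ∈ H1.subgroupOf L ⊔ OL := mul_mem (mul_mem htmem hcmem) humem
        have hz'OL : z' ∈ OL := by
          let φ := QuotientGroup.mk' OL
          have hP : IsPGroup 2 ((H1.subgroupOf L).map φ) := hH1p.map _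
          have hφz : φ z' ∈ (H1.subgroupOf L).map φ := by
            have h1 := mem_map_of_mem φ hz'mem
            rwa [Subgroup.map_sup, QuotientGroup.map_mk'_self, sup_bot_eq] at h1
          obtain ⟨e, he⟩ := hP ⟨φ z', hφz⟩
          have he' : orderOf (φ z') ∣ 2 ^ e := orderOf_dvd_of_pow_eq_one (congrArg Subtype.val he)
          have hzo : orderOf (φ z') ∣ Nat.card X := by
            refine (orderOf_map_dvd φ z').trans (orderOf_dvd_of_pow_eq_one (Subtype.ext ?_))
            exact hzj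
          have h1 : orderOf (φ z') ∣ Nat.gcd (2 ^ e) (Nat.card X) := Nat.dvd_gcd he' hzo
          rw [(Nat.coprime_two_left.2 hX).pow_left e] at h1
          exact (QuotientGroup.eq_one_iff _).1 (orderOf_eq_one_iff.1 (Nat.dvd_one.1 h1))
        have hzmem : z ∈ Cfsg.centralizerPPrimeCore 2 u' := ⟨z', hz'OL, rfl⟩
        have hval := Cfsg.Agent.S0942.result 2 Mi hMi u' ⟨1, by rw [hu'o, pow_one]⟩ z hzmem χ hχ
        have hweq : u' * z = w := by
          rw [hz, ← mul_assoc, ← hwu'.eq, mul_assoc, hu'2, mul_one]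
        rw [hweq, hu'eq] at hval
        rw [hval, ← CT.isClassFunction_isConj (CT.isClassFunction_of_isIrr χ.2)
          (isConj_iff.mpr ⟨k1, rfl⟩ : IsConj u (k1 * u * k1⁻¹))]
    have hex : ∀ χ : IrrCharacter G, ∃ m : ℕ, ∑ v ∈ Vf, (χ : G → ℂ) v = (Vf.card : ℂ) * m := by
      intro χ
      obtain ⟨m, hm⟩ := CT.classInner_character_nat
        (CT.isCharacter_restrict V (CT.isCharacter_of_isIrr χ.2)) CT.isCharacter_one
      refine ⟨m, ?_⟩
      rw [← hm, classInner, hkV, hcardV]
      simp only [map_one, mul_one]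
      rw [← mul_assoc, mul_inv_cancel₀ (Nat.cast_ne_zero.2 (pow_ne_zero _ two_ne_zero)), one_mul, hVf]
      exact (Finset.sum_subtype (p := fun y => y ∈ V) _ (fun y => memVf) fun y => (χ : G → ℂ) y)
    obtain ⟨χ, hne, hker⟩ := exists_kernel hMi Vf h1Vf (fun v hv => (memVf.1 hv).2)
      (fun a ha b hb => memVf.2 (mul_mem (memVf.1 ha) (memVf.1 hb))) hdata hex ⟨kV, hcardV⟩ ht
      (by convert hr) (by convert hr3)
    have hχ := CT.isCharacter_of_isIrr χ.2
    haveI hKn : (CT.kerChar (χ : G → ℂ)).Normal := by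
      constructor
      intro y hy g
      rw [CT.mem_kerChar_iff hχ] at hy ⊢
      rw [← CT.isClassFunction_isConj (CT.isClassFunction_of_isCharacter hχ)
        (isConj_iff.mpr ⟨g, rfl⟩ : IsConj y (g * y * g⁻¹)), hy]
    refine hnn (meet (CT.kerChar (χ : G → ℂ)) (fun e => hne ?_) fun e => ht1 ?_)
    · have hconst : ∀ y, (χ : G → ℂ) y = (χ : G → ℂ) 1 := fun y =>
        (CT.mem_kerChar_iff hχ).1 (e ▸ mem_top y)
      have h1 := CT.irr_inner_self χ.2
      rw [classInner] at h1
      simp only [hconst, Finset.sum_const, Finset.card_univ, nsmul_eq_mul, ← Nat.card_eq_fintype_card]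
        at h1
      rw [← mul_assoc, inv_mul_cancel₀ (Nat.cast_ne_zero.2 Nat.card_pos.ne'), one_mul,
        CT.deg_eq hχ, map_natCast] at h1
      have hd : CT.deg (χ : G → ℂ) = 1 := by
        have h2 : CT.deg (χ : G → ℂ) * CT.deg (χ : G → ℂ) = 1 := by exact_mod_cast h1
        exact Nat.eq_one_of_mul_eq_one_right h2
      apply Subtype.ext
      funext y
      rw [hconst y, CT.deg_eq hχ, hd]
      simp
    · exact mem_bot.1 (e ▸ (show t ∈ H ⊓ CT.kerChar (χ : G → ℂ) from
        ⟨htV.1, (CT.mem_kerChar_iff hχ).2 (hker t htV')⟩))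

/-- `G = N(H) O(G)` for an extremely closed abelian `2`-subgroup `H`. -/
theorem normalizer_sup_core {G : Type u} [Group G] [Finite G] {H : Subgroup G}
    (hH : IsPGroup 2 H) (hc : ∀ x ∈ H, ∀ y ∈ H, Commute x y) (hcl : Cfsg.IsExtremelyClosed H) :
    normalizer (H : Set G) ⊔ Cfsg.pPrimeCore 2 G = ⊤ := by
  haveI : Fact (Nat.Prime 2) := ⟨Nat.prime_two⟩
  set O := Cfsg.pPrimeCore 2 G with hO
  have hOodd : Odd (Nat.card O) := by
    rw [← Nat.not_even_iff_odd, even_iff_two_dvd]
    exact Basics.not_dvd_card_pPrimeCore 2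
  have hmain := main (Nat.card G + 1) G (Nat.lt_succ_self _) H hH hc
    (wit_of_extremelyClosed hH hc hcl)
  rw [eq_top_iff]
  intro g _
  obtain ⟨k, hk, hle⟩ := le_conj hOodd hH le_normalizer_of_normal (isPGroup_cj hH g)
    ((hmain g).trans (sup_comm H O).le)
  have he : cj g H = cj k H := eq_of_le_of_card_ge hle (by rw [card_cj, card_cj])
  have hn : k⁻¹ * g ∈ normalizer (H : Set G) := by
    have h1 : cj (k⁻¹ * g) H = H := by rw [cj_mul, he, ← cj_mul, inv_mul_cancel, cj_one]
    rw [mem_normalizer_iff]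
    intro y
    constructor
    · exact fun hy => h1 ▸ conj_mem_cj hy
    · intro hy
      have h2 := mem_cj.1 (h1.symm ▸ hy : _ ∈ cj (k⁻¹ * g) H)
      rwa [show (k⁻¹ * g)⁻¹ * (k⁻¹ * g * y * (k⁻¹ * g)⁻¹) * (k⁻¹ * g) = y by group] at h2
  rw [show g = k * (k⁻¹ * g) by group]
  exact mul_mem (mem_sup_right hk) (mem_sup_left hn)

end Cfsg.Agent.ExtClosed
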